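import Mathlib
import Cfsg.Agent.SLE.Base
import Cfsg.Agent.SLE.Aut
import Cfsg.Agent.Chev.AutThm
import Cfsg.Agent.Chev.GraphSets
import Cfsg.Agent.Chev.StGen
import Cfsg.Agent.Mult.ChevR3
import Cfsg.Agent.S2175
import Cfsg.Agent.S2176
import Cfsg.Agent.S2181

/-! Root facts for S3326. -/

set_option autoImplicit false

namespace Cfsg.Agent.SLE

open Cfsg.Lie Cfsg.Agent.Chev Subgroup

variable {D : ChevalleyDatum} {T : RootTable D}

namespace Ins

theorem good (hD : D ∈ [chevD4, chevE6, chevE7, chevE8]) : Nonempty (Good D) ∧ (∀ i j, cm D i j = cm D j i) ∧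
    DomIn D [D.nroots - 1] ∧
    (∀ b < D.nroots, (∀ i : Fin D.rank, D.cartan i (D.nroots - 1) = 0 → 0 ≤ D.cartan i b) →
      D.pairing (D.nroots - 1) b = 1 → b = D.nroots - 2) ∧
    3 ≤ D.nroots ∧ D.pairing (D.nroots - 1) (D.nroots - 2) = 1 ∧ D.pairing (D.nroots - 1) (D.nroots - 3) = 1 ∧
      D.pairing (D.nroots - 2) (D.nroots - 3) = 1 := by
  simp only [List.mem_cons, List.not_mem_nil, or_false] at hD
  rcases hD with rfl | rfl | rfl | rfl
  · exact ⟨⟨goodD4⟩, cm_symm_D4, domInD4, by decide +kernel⟩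
  · exact ⟨⟨goodE6⟩, cm_symm_E6, domInE6, by decide +kernel⟩
  · exact ⟨⟨goodE7⟩, cm_symm_E7, domInE7, by decide +kernel⟩
  · exact ⟨⟨goodE8⟩, cm_symm_E8, domInE8, by decide +kernel⟩

set_option synthInstance.maxSize 100000 in
set_option synthInstance.maxHeartbeats 2000000 in
theorem efc (hD : D ∈ [chevE6, chevE7, chevE8]) : 4 ≤ D.nroots ∧
    (∀ b < D.nroots, (∀ i : Fin D.rank, D.cartan i (D.nroots - 1) = 0 → 0 ≤ D.cartan i b) →
      D.pairing (D.nroots - 1) b = 0 ∨ D.pairing (D.nroots - 1) b = 1 →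
      D.pairing (D.nroots - 4) (D.nroots - 1) = 1 ∧ D.pairing (D.nroots - 4) b = 1 ∧
      ∀ c < D.nroots, (∀ i : Fin D.rank, D.cartan i (D.nroots - 1) = 0 → D.cartan i b = 0 → 0 ≤ D.cartan i c) →
        1 ≤ D.pairing c (D.nroots - 1) → D.pairing c b = 1 → D.pairing (D.nroots - 4) c = 1) ∧
    ∃ i : Fin D.rank, D.pairing (D.nroots - 1) (D.simple i) = 1 ∧
      ∀ j, j ≠ i → D.pairing (D.nroots - 1) (D.simple j) = 0 := by
  simp only [List.mem_cons, List.not_mem_nil, or_false] at hD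
  rcases hD with rfl | rfl | rfl <;> decide +kernel

theorem chain2 [Good D] (hs : ∀ i j, cm D i j = cm D j i) (r s : Rt D) (k : ℕ) :
    D.chainRoot r s (k + 2) = none := by
  by_contra hne
  obtain ⟨u, hu⟩ := exists_chainRoot hne
  obtain ⟨h1, h2⟩ := ne_of_chainRoot hu
  have h3 := A_of_chain (a := r) hu
  have h4 := abs_le.1 (abs_A_le_one_of_symm hs h1 h2)
  have h5 : A r u ≤ 2 := by
    by_cases e : u = r
    · rw [e, A_self]
    by_cases e' : u = ng r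
    · rw [e', A_ng_right, A_self]; omega
    have := abs_le.1 (abs_A_le_one_of_symm hs e e')
    omega
  rw [A_self] at h3
  push_cast at h3
  omega

theorem ct [Good D] (hs : ∀ i j, cm D i j = cm D j i) (r s : Rt D) :
    D.commTerms r s = (D.chainRoot r s 1).toList.map fun k => (k, D.chainM r s 1, 1, 1) := by
  simp only [ChevalleyDatum.commTerms, chain2 hs r s 0, chain2 hs r s 1, chain2 hs s r 0, chain2 hs s r 1]
  cases D.chainRoot r s 1 <;> simp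

theorem one_none [Good D] (hs : ∀ i j, cm D i j = cm D j i) {r s : Rt D} (h : 0 ≤ A r s) :
    D.chainRoot r s 1 = none := by
  by_contra hne
  obtain ⟨u, hu⟩ := exists_chainRoot hne
  obtain ⟨h1, h2⟩ := ne_of_chainRoot hu
  have h3 := A_of_chain (a := r) hu
  have h4 := A_of_chain (a := s) hu
  rw [A_self, ← A_comm_of_symm hs r s] at h4
  rw [A_self] at h3
  by_cases e : u = r
  · rw [e, ← A_comm_of_symm hs r s] at h4; push_cast at h4; omega
  by_cases e' : u = ng r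
  · rw [e', A_ng_right, A_self] at h3; push_cast at h3; omega
  have := abs_le.1 (abs_A_le_one_of_symm hs e e')
  push_cast at h3
  omega

theorem one_some [Good D] (hs : ∀ i j, cm D i j = cm D j i) {r s : Rt D} (e : A r s = -1) :
    ∃ k c, (c = 1 ∨ c = -1) ∧ D.commTerms r s = [(k, c, 1, 1)] := by
  have a1 : s ≠ r := fun k => by rw [k, A_self] at e; omega
  have a2 : s ≠ ng r := fun k => by rw [k, A_ng_right, A_self] at e; omega
  have a3 := chain_string a1 a2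
  have a4 := chainRoot_succ_eq_none.1 (one_none hs (r := ng r) (s := s) (by rw [A_ng_left]; omega))
  have a5 := chain_abs (r := r) (s := s) (k := 0) (by omega)
  obtain ⟨u, hu⟩ := exists_chainRoot (r := r) (s := s) (k := 1) fun k => by
    have := chainRoot_succ_eq_none.1 k; omega
  rw [Nat.le_zero.1 a4] at a5
  exact ⟨u, D.chainM r s 1, by simp at a5; omega, by rw [ct hs, hu]; rfl⟩

theorem lex (T : RootTable D) (R : List ℕ) (h : ∀ r ∈ R, r < 2 * T.N) :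
    ∃ w : T.W, LexDom D [] (R.map (T.act w)) :=
  let ⟨_, _, h⟩ := T.exists_lexDom R [] 1 (by simp) h; ⟨_, h⟩

end Ins

theorem sl_of_mem (hD : D ∈ [chevD4, chevE6, chevE7, chevE8]) (T : RootTable D) : SL T := by
  obtain ⟨⟨_⟩, hs, h0, h1, h2, h3⟩ := Ins.good hD
  have top : ∀ r < 2 * T.N, (∀ i : Fin D.rank, 0 ≤ D.cartan i r) → r = D.nroots - 1 := fun r hr h =>
    List.mem_singleton.1 (h0 r (T.lt_iff.2 hr) h)
  have tr : ∀ r < 2 * T.N, ∀ s < 2 * T.N, D.pairing r s = 1 →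
      ∃ w : T.W, T.act w r = D.nroots - 1 ∧ T.act w s = D.nroots - 2 := fun r hr s hs e => by
    obtain ⟨w, a, b, -⟩ := Ins.lex T [r, s] (by simp [hr, hs])
    have e1 := top _ (T.act_lt _ hr) fun i => a i (by simp)
    exact ⟨w, e1, h1 _ (T.lt_iff.2 (T.act_lt _ hs)) (fun i hi => b i (by simpa [e1] using hi))
      (by rw [← e1, T.pairing_act _ hr hs, e])⟩
  refine ⟨fun r hr s hs' => A_comm_of_symm hs ⟨r, T.lt_iff.2 hr⟩ ⟨s, T.lt_iff.2 hs'⟩, fun r hr s hs' e => ?_,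
    fun r hr s hs' e => ?_, fun r hr s hs' e => ?_, fun r hr s hs' => ?_, fun r hr s hs' r' hr' s' hs'' e e' => ?_,
    ⟨_, ?_, _, ?_, _, ?_, h3⟩⟩
  · by_cases e' : s = D.neg r
    · rw [e', T.pairing_neg_right _ hr, T.pairing_self r hr]; omega
    exact (abs_le.1 (abs_A_le_one_of_symm hs (r := ⟨r, T.lt_iff.2 hr⟩) (s := ⟨s, T.lt_iff.2 hs'⟩)
      (fun k => e (congrArg Fin.val k)) fun k => e' (congrArg Fin.val k))).2
  · have := Ins.ct hs ⟨r, T.lt_iff.2 hr⟩ ⟨s, T.lt_iff.2 hs'⟩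
    rwa [Ins.one_none hs (r := ⟨r, T.lt_iff.2 hr⟩) (s := ⟨s, T.lt_iff.2 hs'⟩) e] at this
  · exact Ins.one_some hs (r := ⟨r, T.lt_iff.2 hr⟩) (s := ⟨s, T.lt_iff.2 hs'⟩) e
  · obtain ⟨w, hw⟩ := T.exists_dominant hr
    obtain ⟨v, hv⟩ := T.exists_dominant hs'
    exact ⟨v⁻¹ * w, by rw [T.act_mul, top _ (T.act_lt w hr) hw, ← top _ (T.act_lt v hs') hv, T.act_inv_act]⟩
  · obtain ⟨w, a, b⟩ := tr r hr s hs' e
    obtain ⟨v, c, d⟩ := tr r' hr' s' hs'' e'
    exact ⟨v⁻¹ * w, by rw [T.act_mul, a, ← c, T.act_inv_act], by rw [T.act_mul, b, ← d, T.act_inv_act]⟩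
  all_goals rw [← T.nroots_eq]; omega

theorem ef_of_mem (hD : D ∈ [chevE6, chevE7, chevE8]) (T : RootTable D) : EF T := by
  obtain ⟨-, -, h0, -⟩ := Ins.good (List.mem_cons_of_mem _ hD)
  obtain ⟨h1, h2, h3⟩ := Ins.efc hD
  have h4 : D.nroots - 4 < 2 * T.N := by rw [← T.nroots_eq]; omega
  have key : ∀ a < 2 * T.N, ∀ b < 2 * T.N, ∀ c < 2 * T.N, D.pairing a b = 0 ∨ D.pairing a b = 1 →
      ∃ d < 2 * T.N, D.pairing d a = 1 ∧ D.pairing d b = 1 ∧
        (1 ≤ D.pairing c a → D.pairing c b = 1 → D.pairing d c = 1) := fun a ha b hb c hc e => by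
    obtain ⟨w, k1, k2, k3, -⟩ := Ins.lex T [a, b, c] (by simp [ha, hb, hc])
    have e1 := List.mem_singleton.1 (h0 _ (T.lt_iff.2 (T.act_lt _ ha)) fun i => k1 i (by simp))
    obtain ⟨m1, m2, m3⟩ := h2 _ (T.lt_iff.2 (T.act_lt _ hb)) (fun i hi => k2 i (by simpa [e1] using hi))
      (by rwa [← e1, T.pairing_act _ ha hb])
    have m4 := m3 _ (T.lt_iff.2 (T.act_lt _ hc)) fun i a b => k3 i (by simp [e1, a, b])
    have m5 := T.act_lt w⁻¹ h4
    rw [← e1, T.pairing_act _ hc ha, T.pairing_act _ hc hb] at m4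
    rw [← e1] at m1
    rw [← T.act_act_inv w (D.nroots - 4)] at m1 m2 m4
    rw [T.pairing_act _ m5 ha] at m1
    rw [T.pairing_act _ m5 hb] at m2
    rw [T.pairing_act _ m5 hc] at m4
    exact ⟨_, m5, m1, m2, m4⟩
  refine ⟨fun a ha b hb e => (key a ha b hb a ha (.inl e)).imp fun d h => ⟨h.1, h.2.1, h.2.2.1⟩,
    fun a ha b hb c hc e e1 e2 => (key a ha b hb c hc e).imp fun d h => ⟨h.1, h.2.1, h.2.2.1, h.2.2.2 e1 e2⟩,
    by rwa [hi, ← T.nroots_eq], ?_⟩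
  have sy : ∀ ρ : Equiv.Perm (Fin D.rank), (∀ i k, cm D (ρ i) (ρ k) = cm D i k) → D.IsDiagramSymmetry ρ :=
    fun ρ h i j _ => by rw [bonds_eq, bonds_eq, h, h]
  simp only [List.mem_cons, List.not_mem_nil, or_false] at hD
  rcases hD with rfl | rfl | rfl
  · exact ⟨flipE6, by decide, fun ρ h => sym_E6 ρ (sy ρ h)⟩
  · exact ⟨1, mul_one _, fun ρ h => .inl (sym_E7 ρ (sy ρ h))⟩
  · exact ⟨1, mul_one _, fun ρ h => .inl (sym_E8 ρ (sy ρ h))⟩


/-- the bottom height of the top abelian ideal used below -/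
def mD (D : ChevalleyDatum) : ℤ := if D.rank = 6 then 7 else if D.rank = 7 then 9 else 17

namespace Ins

theorem vec_eq (H : SL T) {r : ℕ} (hr : r < 2 * T.N) : T.vec r = cvec D r :=
  T.root_induction (P := fun r => T.vec r = cvec D r) (fun i => by rw [T.vec_simple, T.cvec_simple])
    (fun i r hr h => by
      rw [T.vec_refl' i r hr, T.cvec_refl i r hr, h, H.symm r hr _ (T.simple_lt i), T.pairing_simple]) hr

/-- computable height -/
def hc (D : ChevalleyDatum) (r : ℕ) : ℤ := ∑ i, cvec D r i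

theorem ht_eq (H : SL T) {r : ℕ} (hr : r < 2 * T.N) : ht T r = hc D r := by
  rw [ht, vec_eq H hr, hc]

theorem htc (hD : D ∈ [chevE6, chevE7, chevE8]) : (∀ r < D.nroots, hc D r < 2 * mD D) ∧ 0 < mD D ∧
    4 * ((Finset.range D.nroots).filter fun r => mD D ≤ hc D r).card < D.nroots := by
  simp only [List.mem_cons, List.not_mem_nil, or_false] at hD
  rcases hD with rfl | rfl | rfl <;> decide +kernel

theorem ncard_eq {n : ℕ} {p q : ℕ → Prop} [DecidablePred q] (h : ∀ r, p r ↔ r < n ∧ q r) :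
    {r | p r}.ncard = ((Finset.range n).filter q).card := by
  rw [← Set.ncard_coe_finset]
  congr 1
  ext r
  simp [h]

/-- every involution is conjugate to a product over high roots -/
def Top (D : ChevalleyDatum) : Prop := ∃ reps nodes reds, ClassOK D reps nodes reds ∧
  ∀ Q ∈ [] :: reps, (∀ r ∈ Q, r < D.nroots) ∧ ∃ ms, (moves D ms Q).any fun R =>
    ∀ r ∈ R, r < D.nroots ∧ mD D ≤ hc D r

theorem top (hD : D ∈ [chevE6, chevE7, chevE8]) : Top D := by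
  simp only [List.mem_cons, List.not_mem_nil, or_false] at hD
  rcases hD with rfl | rfl | rfl
  · refine ⟨_, _, _, S2175.classOK, fun Q hQ => ?_⟩
    exact ⟨by revert Q; decide +kernel, [], by revert Q; decide +kernel⟩
  · refine ⟨_, _, _, S2181.classOK, fun Q hQ => ?_⟩
    exact ⟨by revert Q; decide +kernel, (if 63 ∈ Q then [5, 4, 3, 1, 0, 2, 3, 1, 4, 3, 2, 0]
      else if 87 ∈ Q then [0, 2, 5, 4] else []).map fun i => (0, i), by revert Q; decide +kernel⟩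
  · refine ⟨_, _, _, S2176.classOK, fun Q hQ => ?_⟩
    exact ⟨by revert Q; decide +kernel, [], by revert Q; decide +kernel⟩

end Ins

theorem ht_facts (hD : D ∈ [chevE6, chevE7, chevE8]) (T : RootTable D) :
    (∀ r < 2 * T.N, ht T r < 2 * mD D) ∧ 0 < mD D ∧
      2 * {r | r < 2 * T.N ∧ mD D ≤ ht T r}.ncard < T.N := by
  have H := sl_of_mem (List.mem_cons_of_mem _ hD) T
  obtain ⟨h1, h2, h3⟩ := Ins.htc hD
  rw [T.nroots_eq] at h1 h3
  refine ⟨fun r hr => by rw [Ins.ht_eq H hr]; exact h1 r hr, h2, ?_⟩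
  rw [Ins.ncard_eq (n := 2 * T.N) (q := fun r => mD D ≤ Ins.hc D r)
    fun r => and_congr_right fun hr => by rw [Ins.ht_eq H hr]]
  omega

/-- Every involution of `Gs D x` is conjugate into the top ideal, with coefficients `1`. -/
theorem Lie.exists_top {F : Type*} [Field F] [Finite F] [CharP F 2] {G : Type*} [Group G]
    [Finite G] {x : ℕ → F → G} (h : Lie T x) {g : G} (hg : g ∈ Gs D x) (h2 : g * g = 1) :
    ∃ R : List ℕ, (∀ r ∈ R, r < 2 * T.N ∧ mD D ≤ ht T r) ∧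
      ∃ l ∈ Gs D x, l * g * l⁻¹ = oprod x R 1 := by
  obtain ⟨⟨_⟩, -⟩ := Ins.good (List.mem_cons_of_mem _ h.mem)
  have hs := Au.res_st T h.st
  have h7 : D ∈ [chevG2, chevB2, chevD4, chevF4, chevE6, chevE7, chevE8] := by
    have := h.mem; simp only [List.mem_cons] at this ⊢; tauto
  obtain ⟨R, h3, h4⟩ := (Au.res_nd h.nd).exists_conj_orth hs Au.res_top
    (fun a ha b hb => (Mult.isR3_of_finite h7 hs.toIsSt0).Hs_comm hs T ha hb)
    (fun a ha e => by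
      have k := h.oddH _ ((Au.res_Hs T a).1 ha)
      rw [orderOf_coe] at k
      by_contra e'
      rw [orderOf_eq_prime (by rw [sq, e]) e'] at k
      exact absurd k (by decide)) (t := ⟨g, hg⟩) (Subtype.ext h2)
  obtain ⟨reps, nodes, reds, hc, ht⟩ := Ins.top h.mem
  obtain ⟨P, h5, h6⟩ := hs.classify_orth T hc.1 (fun P hP => by
    obtain ⟨q, hq, rfl⟩ := List.mem_map.mp hP
    exact ⟨_, _, _, hc.2.1 q hq⟩) h3
  obtain ⟨q, hq, rfl⟩ := List.mem_map.mp h5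
  obtain ⟨h8, Q, h9, h10⟩ := hc.2.2 q hq
  obtain ⟨k1, ms, k2⟩ := ht Q h9
  obtain ⟨R', k3, k4⟩ := Option.any_eq_true _ _ |>.1 k2
  replace k4 := of_decide_eq_true k4
  obtain ⟨l, hl⟩ := isConj_iff.1 (((h4.trans h6).trans (hs.isConj_of_moves T h8 h10)).trans
    (hs.isConj_of_moves T k1 k3))
  refine ⟨R', fun r hr => ?_, l, l.2, ?_⟩
  · have := T.lt_iff.1 (k4 r hr).1
    exact ⟨this, by rw [Ins.ht_eq h.sl this]; exact (k4 r hr).2⟩
  have := congrArg (Gs D x).subtype hl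
  rw [map_oprod] at this
  refine this.trans ?_
  unfold oprod
  congr 1
  exact List.map_congr_left fun r hr => (Au.res_eq r (k4 r hr).1 _).symm

namespace Ins

/-- the roots of `D₄` among those of `E₆` -/
def io (r : ℕ) : ℕ :=
  [0, 1, 18, 6, 24, 32, 2, 20, 8, 25, 27, 11, 60, 44, 46, 63, 51, 69, 39, 47, 65, 53, 70, 71].getD r 0

set_option synthInstance.maxSize 100000 in
set_option synthInstance.maxHeartbeats 2000000 in
theorem gf : (∀ r < 72, flipRootE6 r < 72 ∧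
      (∀ j : Fin chevE6.rank, chevE6.cartan (flipE6 j) (flipRootE6 r) = chevE6.cartan j r) ∧
      hc chevE6 (flipRootE6 r) = hc chevE6 r ∧ (flipRootE6 r ≠ r → chevE6.pairing r (flipRootE6 r) = 0) ∧
      (flipRootE6 r = r → (∃ s < 72, flipRootE6 s ≠ s ∧ chevE6.pairing s r = 1) ∧ ∃ s < 24, io s = r)) ∧
    (∀ a < 24, ∀ b < 24, chevD4.pairing a b = 0 → ∃ r < 72, flipRootE6 r ≠ r ∧
      chevE6.pairing (io a) r = -1 ∧ ∀ j, cvec chevE6 (io b) j =
        cvec chevE6 (io a) j + cvec chevE6 r j + cvec chevE6 (flipRootE6 r) j) ∧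
    ((Finset.range 72).filter fun r => 36 ≤ r ∧ flipRootE6 r = r).card = 12 ∧
    ∀ r < 24, io r < 72 ∧ flipRootE6 (io r) = io r ∧ io (chevD4.neg r) = chevE6.neg (io r) ∧
      (12 ≤ r ↔ 36 ≤ io r) ∧ ∀ s < 24, chevE6.pairing (io r) (io s) = chevD4.pairing r s := by
  decide +kernel

theorem flip (hD : D ∈ [chevE6, chevE7, chevE8]) {π : ℕ → ℕ} (hπ : Sym T π)
    (h1 : ∃ r < 2 * T.N, π r ≠ r) : D = chevE6 ∧ ∀ r < 72, π r = flipRootE6 r := by
  have H := sl_of_mem (List.mem_cons_of_mem _ hD) T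
  obtain ⟨ρ, h2, h3⟩ := Au.sym_perm hπ
  have h4 : ρ ≠ 1 := by
    rintro rfl
    obtain ⟨r, hr, e⟩ := h1
    exact e (Au.sym_ext H hπ (Sym.id T) h2 r hr)
  have h5 : D.IsDiagramSymmetry ρ := fun i j _ => by rw [bonds_eq, bonds_eq, h3, h3]
  simp only [List.mem_cons, List.not_mem_nil, or_false] at hD
  rcases hD with rfl | rfl | rfl
  · obtain rfl := (sym_E6 ρ h5).resolve_left h4
    have hN : 2 * T.N = 72 := T.nroots_eq.symm
    refine ⟨rfl, fun r hr => Au.root_ext H (hπ.lt r (hN ▸ hr)) (hN ▸ (gf.1 r hr).1) fun j => ?_⟩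
    obtain ⟨j, rfl⟩ := flipE6.surjective j
    rw [(gf.1 r hr).2.1, ← T.pairing_simple, ← h2, hπ.pair _ (T.simple_lt j) r (hN ▸ hr), T.pairing_simple]
  · exact absurd (sym_E7 ρ h5) h4
  · exact absurd (sym_E8 ρ h5) h4

end Ins

/-- Facts on the graph symmetry of `E₆`. -/
theorem graph_facts (hD : D ∈ [chevE6, chevE7, chevE8]) {π : ℕ → ℕ} (hπ : Sym T π)
    (h1 : ∃ r < 2 * T.N, π r ≠ r) :
    T.N = 36 ∧ (∀ r < 2 * T.N, π r ≠ r → D.pairing r (π r) = 0) ∧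
    (∀ r < 2 * T.N, ht T (π r) = ht T r) ∧
    (∀ a < 2 * T.N, ∀ b < 2 * T.N, π a = a → π b = b → D.pairing a b = 0 →
      ∃ r k, π r ≠ r ∧ Sm T a r k ∧ Sm T k (π r) b) ∧
    (∀ k < 2 * T.N, π k = k → ∃ r s, π r ≠ r ∧ π s ≠ s ∧ Sm T r s k) ∧
    {r | T.N ≤ r ∧ r < 2 * T.N ∧ π r = r}.ncard = 12 ∧
    ∃ ι : ℕ → ℕ, (∀ r < 24, ι r < 2 * T.N ∧ π (ι r) = ι r ∧ ι (chevD4.neg r) = D.neg (ι r) ∧
        (12 ≤ r ↔ T.N ≤ ι r) ∧ ∀ s < 24, D.pairing (ι r) (ι s) = chevD4.pairing r s) ∧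
      (∀ r s k, Sm rootTableD4 r s k → Sm T (ι r) (ι s) (ι k)) ∧
      ∀ k < 2 * T.N, π k = k → ∃ r < 24, ι r = k := by
  have H := sl_of_mem (List.mem_cons_of_mem _ hD) T
  obtain ⟨rfl, h2⟩ := Ins.flip hD hπ h1
  have hN : 2 * T.N = 72 := T.nroots_eq.symm
  have hN' : T.N = 36 := by omega
  obtain ⟨g1, g2, g3, g4⟩ := Ins.gf
  have g5 : ∀ k < 2 * T.N, π k = k → ∃ r < 24, Ins.io r = k := fun k hk e =>
    ((g1 k (hN ▸ hk)).2.2.2.2 (by rw [← h2 k (hN ▸ hk), e])).2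
  refine ⟨hN', fun r hr e => ?_, fun r hr => ?_, fun a ha b hb ea eb e => ?_, fun k hk e => ?_, ?_,
    Ins.io, fun r hr => ?_, fun r s k e => ?_, g5⟩
  · rw [h2 r (hN ▸ hr)] at e ⊢
    exact (g1 r (hN ▸ hr)).2.2.2.1 e
  · rw [Ins.ht_eq H hr, Ins.ht_eq H (hπ.lt r hr), h2 r (hN ▸ hr), (g1 r (hN ▸ hr)).2.2.1]
  · obtain ⟨a', ha', rfl⟩ := g5 a ha ea
    obtain ⟨b', hb', rfl⟩ := g5 b hb eb
    obtain ⟨r, hr, k1, k2, k3⟩ := g2 a' ha' b' hb' (by rw [← (g4 a' ha').2.2.2.2 b' hb', e])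
    rw [← h2 r hr] at k1 k3
    rw [← hN] at hr
    obtain ⟨k, hk⟩ := SL.exists_sm ha hr k2
    refine ⟨r, k, k1, hk, hk.hk, hπ.lt r hr, hb, ?_⟩
    rw [hk.eq, Ins.vec_eq H hb, Ins.vec_eq H ha, Ins.vec_eq H hr, Ins.vec_eq H (hπ.lt r hr)]
    exact funext k3
  · obtain ⟨r, hr, k1, k2⟩ := ((g1 k (hN ▸ hk)).2.2.2.2 (by rw [← h2 k (hN ▸ hk), e])).1
    rw [← h2 r hr] at k1
    obtain ⟨d, hd⟩ := H.exists_sub (hN ▸ hr) hk k2
    refine ⟨r, d, k1, fun e' => k1 ?_, hd⟩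
    have := hπ.sum _ _ _ hd
    rw [e, e'] at this
    exact this.symm.uniq' hd.symm
  · rw [Ins.ncard_eq (n := 72) (q := fun r => 36 ≤ r ∧ flipRootE6 r = r) fun r => ?_, g3]
    rw [hN, hN']
    exact ⟨fun ⟨a, b, c⟩ => ⟨b, a, h2 r b ▸ c⟩, fun ⟨a, b, c⟩ => ⟨b, a, (h2 r a).trans c⟩⟩
  · rw [hN, hN', h2 _ (g4 r hr).1]
    exact g4 r hr
  · have H4 := sl_of_mem (by simp) rootTableD4
    have h24 : 2 * rootTableD4.N = 24 := rootTableD4.nroots_eq.symm
    have hr := h24 ▸ e.hr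
    have hs := h24 ▸ e.hs
    have hk := h24 ▸ e.hk
    obtain ⟨k', hk'⟩ := SL.exists_sm (T := T) (hN ▸ (g4 r hr).1) (hN ▸ (g4 s hs).1)
      (by rw [(g4 r hr).2.2.2.2 s hs, H4.sm_rs e])
    have k1 := hk'.pair (Ins.io k)
    rw [(g4 k hk).2.2.2.2 r hr, (g4 k hk).2.2.2.2 s hs, H4.sm_kr e, H4.sm_ks e] at k1
    by_cases e' : k' = Ins.io k
    · exact e' ▸ hk'
    have := H.le_one _ (hN ▸ (g4 k hk).1) _ hk'.hk e'
    omega

end Cfsg.Agent.SLE
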