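import Mathlib
import Cfsg.Agent.SLE.Def2
import Cfsg.Agent.SLE.Inst

/-! More root facts for S3326. -/

set_option autoImplicit false

namespace Cfsg.Agent.SLE

open Cfsg.Lie Cfsg.Agent.Chev Subgroup

variable {D : ChevalleyDatum} {T : RootTable D}

theorem SL.sm_iff (H : SL T) {r s k : ℕ} : Sm T r s k ↔ r < 2 * T.N ∧ s < 2 * T.N ∧ k < 2 * T.N ∧
    D.pairing r s = -1 ∧ D.pairing k r = 1 ∧ D.pairing k s = 1 := by
  refine ⟨fun e => ⟨e.hr, e.hs, e.hk, H.sm_rs e, H.sm_kr e, H.sm_ks e⟩, fun ⟨hr, hs, hk, a, b, c⟩ => ?_⟩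
  obtain ⟨k', e⟩ := SL.exists_sm hr hs a
  have k1 := e.pair k
  by_cases e' : k' = k
  · exact e' ▸ e
  have := H.le_one _ hk _ e.hk e'
  omega

namespace Ins

/-- digits packed into a number -/
def pack (B : ℕ) (a : ℕ → ℕ) (n : ℕ) : ℕ := Nat.rec 0 (fun i ih => ih + a i * 2 ^ (B * i)) n

theorem pack_lt {B : ℕ} {a : ℕ → ℕ} {n : ℕ} (h : ∀ i < n, a i < 2 ^ B) : pack B a n < 2 ^ (B * n) := by
  induction n with
  | zero => simp [pack]
  | succ n ih =>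
    have h1 := ih fun i hi => h i (by omega)
    have h2 := Nat.mul_le_mul_right (2 ^ (B * n)) (Nat.succ_le_of_lt (h n (by omega)))
    change pack B a n + _ < _
    rw [Nat.mul_succ, pow_add]
    nlinarith

theorem dig_pack {B : ℕ} {a : ℕ → ℕ} {n : ℕ} (h : ∀ i < n, a i < 2 ^ B) {s : ℕ} (hs : s < n) :
    dig (pack B a n) B s = a s := by
  induction n with
  | zero => omega
  | succ n ih =>
    change dig (pack B a n + _) _ _ = _
    rw [dig, Nat.shiftRight_eq_div_pow]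
    by_cases e : s = n
    · rw [e, Nat.add_mul_div_right _ _ (by positivity), Nat.div_eq_of_lt (pack_lt fun i hi => h i (by omega)),
        zero_add, Nat.mod_eq_of_lt (h n (by omega))]
    obtain ⟨m, rfl⟩ : ∃ m, n = s + 1 + m := ⟨n - s - 1, by omega⟩
    rw [← ih (fun i hi => h i (by omega)) (by omega), dig, Nat.shiftRight_eq_div_pow,
      show a (s + 1 + m) * 2 ^ (B * (s + 1 + m)) = a (s + 1 + m) * 2 ^ (B * m) * 2 ^ B * 2 ^ (B * s) by ring,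
      Nat.add_mul_div_right _ _ (by positivity), Nat.add_mul_mod_self_right]

theorem cast_pack (B : ℕ) (a : ℕ → ℕ) (n : ℕ) :
    (pack B a n : ℤ) = ∑ i ∈ Finset.range n, (a i : ℤ) * (2 ^ (B * i) : ℕ) := by
  induction n with
  | zero => rfl
  | succ n ih => rw [Finset.sum_range_succ, ← ih, ← Nat.cast_mul, ← Nat.cast_add]; rfl

/-- packed row of the Cartan table -/
def cz (E : Enc) (i : ℕ) : ℤ := sumN E.n fun s => E.car i s * (2 ^ (4 * s) : ℕ)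

/-- packed row of the pairing table -/
def row (E : Enc) (r : ℕ) : ℕ := (sumN E.l (fun i => E.co r i * cz E i) + pack 4 (fun _ => 8) E.n).toNat

/-- the pairing read off from a packed table -/
def pf (E : Enc) (r s : ℕ) : ℤ :=
  Bool.rec (E.pair r s) (sdig (dig (pack (4 * E.n) (row E) E.n) (4 * E.n) r) s) (Nat.blt r E.n && Nat.blt s E.n)

theorem pf_eq (H : SL T) {E : Enc} (hE : E.agree D = true) : D.pairing = pf E := by
  obtain ⟨e1, e2, -, -, e5, e6, -⟩ := E.agree_spec D hE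
  have hp : ∀ r s, D.pairing r s = E.pair r s := fun r s => by
    rw [pairing_eq_sum, Enc.pair, sumN_eq, e2, e5, e6]
  have hb : ∀ r < E.n, ∀ s < E.n, -2 ≤ E.pair r s ∧ E.pair r s ≤ 2 := fun r hr s hs => by
    rw [← e1, T.lt_iff] at hr hs
    have := T.pairing_self r hr
    rw [← hp]
    constructor
    · by_cases e : s = D.neg r
      · rw [e, T.pairing_neg_right _ hr]; omega
      have := H.neg_one_le hr hs e; omega
    · by_cases e : s = r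
      · rw [e]; omega
      have := H.le_one r hr s hs e; omega
  have h1 : ∀ r < E.n, ∀ s < E.n, (E.pair r s + 8).toNat < 2 ^ 4 := fun r hr s hs => by
    have := hb r hr s hs; omega
  have h2 : ∀ r < E.n, row E r = pack 4 (fun s => (E.pair r s + 8).toNat) E.n := fun r hr => by
    rw [row, ← Int.toNat_natCast (pack 4 (fun s => (E.pair r s + 8).toNat) E.n)]
    congr 1
    simp only [cast_pack, cz, sumN_eq, Finset.mul_sum]
    rw [Finset.sum_comm, ← Finset.sum_add_distrib]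
    refine Finset.sum_congr rfl fun s hs => ?_
    have := hb r hr s (Finset.mem_range.1 hs)
    rw [Int.toNat_of_nonneg (by omega), add_mul, Enc.pair, sumN_eq, Finset.sum_mul]
    simp only [mul_assoc, Nat.cast_ofNat]
  funext r s
  rw [hp, pf]
  by_cases h : r < E.n ∧ s < E.n
  · rw [blt_true h.1, blt_true h.2, dig_pack (fun i hi => by rw [h2 i hi]; exact pack_lt (h1 i hi)) h.1,
      h2 r h.1, sdig, dig_pack (h1 r h.1) h.2, Int.subNatNat_eq_coe]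
    have := hb r h.1 s h.2
    change E.pair r s = _ - _
    omega
  by_cases e : r < E.n
  · rw [blt_false (a := s) (by omega), Bool.and_false]
  · rw [blt_false (a := r) (by omega), Bool.false_and]

/-- fast bounded `∀` -/
@[reducible] def decAll (n : ℕ) (P : ℕ → Prop) [DecidablePred P] : Decidable (∀ k < n, P k) :=
  decidable_of_iff (allN n (fun k => decide (P k)) = true) (by simp [allN_iff])

/-- fast bounded `∃` -/
@[reducible] def decEx (n : ℕ) (P : ℕ → Prop) [DecidablePred P] : Decidable (∃ k < n, P k) :=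
  decidable_of_iff (allN n (fun k => !decide (P k)) = false) (by
    rw [← Bool.not_eq_true, allN_iff]; simp)

attribute [local instance 2000] decAll decEx

section Dec

variable (p : ℕ → ℕ → ℤ) (N l : ℕ) (σ : ℕ → ℕ)

/-- decidable form of `Sm` -/
abbrev sm (r s k : ℕ) : Prop := p r s = -1 ∧ p k r = 1 ∧ p k s = 1

/-- decidable form of `RB` -/
def RBd (θ b i g : ℕ) : Prop := b < 2 * N ∧ i < l ∧ g < 2 * N ∧ sm p b (σ i) θ ∧
  (∀ j < l, j ≠ i → p θ (σ j) = 0) ∧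
  (∀ k < 2 * N, 0 ≤ p θ k → (∃ r < 2 * N, p r k = 1 ∧ 0 ≤ p θ r ∧ p θ r ≤ p θ k) ∧
    (0 ≤ p b k → ∃ r < 2 * N, p r k = 1 ∧ 0 ≤ p θ r ∧ p θ r ≤ p θ k ∧ 0 ≤ p b r ∧ p b r ≤ p b k)) ∧
  p θ g = 0 ∧ p b g = 1 ∧ (∀ δ < 2 * N, N ≤ δ → p θ δ = 0 → p b δ = 0 → 0 ≤ p g δ) ∧
  (∀ γ < 2 * N, p θ γ = 0 → p b γ = 1 → γ = g ∨
    ∃ δ < 2 * N, N ≤ δ ∧ p γ δ = -1 ∧ p θ δ = 0 ∧ p b δ = 0) ∧
  (∀ s < 2 * N, p θ s = 1 → p b s = 1 → (∃ δ < 2 * N, p s δ = -1 ∧ p θ δ = 0 ∧ p b δ = 0) ∧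
    ∃ γ < 2 * N, p γ s = 1 ∧ p θ γ = 0 ∧ p b γ = 1) ∧
  ∀ δ < 2 * N, p θ δ = 0 → p b δ = 0 → ∃ s < 2 * N, p s δ = -1 ∧ p θ s = 1 ∧ p b s = 1

/-- decidable form of `CD` -/
def CDd (θ : ℕ) (R Ω L : List ℕ) (W : List (ℕ × ℕ)) : Prop :=
  (∀ b ∈ R, N ≤ b ∧ b < 2 * N) ∧ R.Pairwise (fun r s => p r s = 0 ∧ p s r = 0) ∧ (∃ b ∈ R, p θ b = 1) ∧
  (∀ i < l, 0 ≤ (R.map fun b => p b (σ i)).sum) ∧ (∀ s < 2 * N, (R.map fun b => p b s).sum ≤ 3) ∧
  (∀ r ∈ L, N ≤ r ∧ r < 2 * N ∧ ∀ b ∈ R, 0 ≤ p r b) ∧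
  (∀ w ∈ W, (N ≤ w.1 ∧ w.1 < 2 * N) ∧ (N ≤ w.2 ∧ w.2 < 2 * N) ∧ ∃ b ∈ R, p w.1 b = -1 ∧ ∃ b' ∈ R, b ≠ b' ∧
    (∀ c ∈ R, c ≠ b → 0 ≤ p w.1 c) ∧ (∀ c ∈ R, c ≠ b' → 0 ≤ p w.2 c) ∧
    ∃ k < 2 * N, (p k w.1 = 1 ∧ p k b = 1) ∧ sm p w.2 b' k) ∧
  (∀ i < l, σ i ∈ L ∨ ∃ w ∈ W, w.1 = σ i) ∧
  (∀ i < l, ∀ j < l, i ≠ j → ∃ r ∈ L, p r (σ i) ≠ p r (σ j)) ∧
  (∀ s ∈ Ω, N ≤ s ∧ s < 2 * N ∧ 2 ≤ (R.map fun b => p b s).sum) ∧
  (∀ r < 2 * N, N ≤ r → (∀ b ∈ R, 0 ≤ p r b) → ∀ s ∈ Ω, 0 ≤ p s r) ∧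
  (∀ s < 2 * N, N ≤ s → s ∈ Ω ∨ ∃ r ∈ L, p s r = -1) ∧
  (∃ b ∈ R, ∀ s ∈ Ω, s = b ∨ s = θ ∨ ∃ w ∈ W, p s w.1 = -1 ∧ ∃ k < 2 * N, (p k s = 1 ∧ p k w.1 = 1) ∧
    ∀ s' ∈ Ω, s' ≠ b → ¬ sm p s' w.2 k ∧ ¬ sm p s' w.2 s) ∧
  (∃ r ∈ L, ∃ s ∈ L, sm p r s θ) ∧ ∃ ρ < 2 * N, p θ ρ = -1 ∧ ∀ b ∈ R, p ρ b = 0

set_option synthInstance.maxSize 100000 in
set_option synthInstance.maxHeartbeats 2000000 in
instance decRBd (θ b i g : ℕ) : Decidable (RBd p N l σ θ b i g) := by unfold RBd; infer_instance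

set_option synthInstance.maxSize 100000 in
set_option synthInstance.maxHeartbeats 2000000 in
instance decCDd (θ : ℕ) (R Ω L : List ℕ) (W : List (ℕ × ℕ)) : Decidable (CDd p N l σ θ R Ω L W) := by
  unfold CDd; infer_instance

end Dec

theorem rb_of (H : SL T) {b i g : ℕ} (h : RBd D.pairing T.N D.rank D.simple (hi T) b i g) :
    RB T b (D.simple i) := by
  obtain ⟨hb, hi', hg, h1, h2, h3, h4, h5, h6, h7, h8, h9⟩ := h
  refine ⟨H.sm_iff.2 ⟨hb, T.simple_lt ⟨i, hi'⟩, hi_lt T, h1⟩, ⟨⟨i, hi'⟩, rfl, fun j e => h2 j j.2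
    fun k => e (Fin.ext k)⟩, fun k hk e => ?_, fun k hk e e' => ?_, ⟨g, hg, h4, h5, fun δ a b => h6 δ b a,
    fun γ hγ a b => (h7 γ hγ a b).imp_right fun ⟨δ, c, d, e, f, g⟩ =>
      (SL.exists_sm hγ c e).elim fun k hk => ⟨δ, k, d, f, g, hk⟩⟩, fun s hs a b => ?_,
    fun s hs a b => ?_, fun δ hδ a b => ?_⟩
  · obtain ⟨r, hr, a, c, d⟩ := (h3 k hk e).1
    obtain ⟨s, hs⟩ := H.exists_sub hr hk a
    exact ⟨r, s, hs, c, by have := hs.pair (hi T); omega⟩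
  · obtain ⟨r, hr, a, c, d, c', d'⟩ := (h3 k hk e').2 e
    obtain ⟨s, hs⟩ := H.exists_sub hr hk a
    exact ⟨r, s, hs, ⟨c', c⟩, by have := hs.pair b; omega, by have := hs.pair (hi T); omega⟩
  · obtain ⟨δ, c, d, e, f⟩ := (h8 s hs a b).1
    exact (SL.exists_sm hs c d).elim fun k hk => ⟨δ, k, e, f, hk⟩
  · obtain ⟨γ, c, d, e, f⟩ := (h8 s hs a b).2
    exact (H.exists_sub c hs d).elim fun k hk => ⟨k, γ, e, f, hk.symm⟩
  · obtain ⟨s, c, d, e, f⟩ := h9 δ hδ a b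
    exact (SL.exists_sm c hδ d).elim fun k hk => ⟨s, k, e, f, hk⟩

theorem cd_of (H : SL T) {R Ω L : List ℕ} {W : List (ℕ × ℕ)}
    (h : CDd D.pairing T.N D.rank D.simple (hi T) R Ω L W) : CD T R Ω := by
  obtain ⟨h1, h2, h3, h4, h5, h6, h7, h8, h9, h10, h11, h12, ⟨b, hb, h13⟩, ⟨r, hr, s, hs, h14⟩, ρ, hρ, h15, h16⟩ := h
  have hW : ∀ w ∈ W, Pr T R w.1 w.2 := fun w hw => by
    obtain ⟨a1, a2, b, hb, a3, b', hb', a4, a5, a6, k, hk, a7, a8⟩ := h7 w hw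
    exact ⟨a1.1, a2.1, b, hb, b', hb', k, a4, H.sm_iff.2 ⟨a1.2, (h1 b hb).2, hk, a3, a7⟩,
      H.sm_iff.2 ⟨a2.2, (h1 b' hb').2, hk, a8⟩, a5, a6⟩
  refine ⟨⟨fun r hr => T.lt_iff.2 (h1 r hr).2, h2⟩, fun b hb => (h1 b hb).1, h3, fun i => h4 i i.2, h5,
    fun i => (h8 i i.2).imp (h6 _) fun ⟨w, a, e⟩ => ⟨w.2, e ▸ hW w a⟩,
    fun i j e => (h9 i i.2 j j.2 fun k => e (Fin.ext k)).imp fun r a => ⟨h6 r a.1, a.2⟩,
    fun s hs => ⟨(h10 s hs).1, (h10 s hs).2.1, (h10 s hs).2.2, fun r a => h11 r a.2.1 a.1 a.2.2 s hs⟩,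
    fun s a c => (h12 s c a).imp_right fun ⟨r, d, e⟩ => ⟨r, (SL.exists_sm c (h6 r d).2.1 e).imp
      fun k f => ⟨h6 r d, f⟩⟩,
    ⟨b, hb, fun s hs => (h13 s hs).imp_right (Or.imp_right fun ⟨w, a, c, k, d, e, f⟩ =>
      ⟨w.1, w.2, k, hW w a, H.sm_iff.2 ⟨(h10 s hs).2.1, (h7 w a).1.2, d, c, e⟩, fun s' g g' =>
        ⟨fun m => (f s' g g').1 (H.sm_iff.1 m).2.2.2, fun m => (f s' g g').2 (H.sm_iff.1 m).2.2.2⟩⟩)⟩,
    ⟨r, s, h6 r hr, h6 s hs, H.sm_iff.2 ⟨(h6 r hr).2.1, (h6 s hs).2.1, hi_lt T, h14⟩⟩,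
    ρ, (SL.exists_sm (hi_lt T) hρ h15).imp fun k a => ⟨h16, a⟩⟩

/-- the certificate for the involution classes -/
def Cl (D : ChevalleyDatum) (p : ℕ → ℕ → ℤ) (N : ℕ) (reps : List (List ℕ))
    (dat : List (List ℕ × List ℕ × List ℕ × List ℕ × List ℕ × List (ℕ × ℕ))) : Prop :=
  ∀ Q ∈ reps, (∀ r ∈ Q, r < D.nroots) ∧ (Q = [2 * N - 1] ∨ ∃ d ∈ dat, d.1 = Q ∧
    moves D (d.2.1.map fun i => (0, i)) Q = some d.2.2.1 ∧
      CDd p N D.rank D.simple (2 * N - 1) d.2.2.1 d.2.2.2.1 d.2.2.2.2.1 d.2.2.2.2.2)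

instance decCl (D : ChevalleyDatum) (p : ℕ → ℕ → ℤ) (N : ℕ) (reps : List (List ℕ))
    (dat : List (List ℕ × List ℕ × List ℕ × List ℕ × List ℕ × List (ℕ × ℕ))) :
    Decidable (Cl D p N reps dat) := by unfold Cl; infer_instance

theorem d6 : RBd (pf encE6) 36 6 chevE6.simple (2 * 36 - 1) 70 1 60 ∧
    Cl chevE6 (pf encE6) 36 [[71], [68, 66], [55, 65, 67]]
    [([68, 66], [], [68, 66], [66, 68, 71], [56, 46, 39, 36, 44, 70], [(42, 37), (37, 42)]),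
     ([55, 65, 67], [], [55, 65, 67], [55, 65, 67, 71], [46, 39, 45, 59, 40, 43, 60, 70],
      [(56, 37), (42, 36), (37, 56), (36, 42), (38, 57)])] := by decide +kernel

theorem d7 : RBd (pf encE7) 63 7 chevE7.simple (2 * 63 - 1) 124 0 92 ∧
    Cl chevE7 (pf encE7) 63 [[125], [125, 92], [125, 92, 63], [125, 92, 87], [125, 92, 63, 87]]
    [([125, 92], [0, 2, 3, 1], [118, 121], [118, 121, 125], [93, 73, 69, 64, 63, 80, 67, 124],
      [(78, 66), (66, 78)]),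
     ([125, 92, 63], [0, 2, 3, 1, 5, 4, 3, 1, 2, 0, 3, 2], [92, 107, 111], [92, 107, 111, 123, 124, 125],
      [78, 69, 63, 97, 75, 65, 120], [(93, 64), (73, 66), (66, 73), (64, 93), (67, 94)]),
     ([125, 92, 87], [0, 2, 3, 1, 5, 4, 3, 1], [114, 116, 119], [114, 116, 119, 125],
      [93, 73, 66, 88, 74, 82, 71, 83, 124], [(78, 63), (69, 64), (64, 69), (63, 78), (65, 79)]),
     ([125, 92, 63, 87], [0, 2, 5, 4, 3, 1, 2, 0, 4, 3, 2, 0], [92, 107, 111, 119],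
      [92, 107, 111, 119, 123, 124, 125], [78, 69, 75, 97, 86, 82, 102, 120],
      [(93, 64), (73, 66), (66, 73), (64, 93), (63, 80), (67, 94), (65, 99)])] := by decide +kernel

theorem d8 : RBd (pf encE8) 120 8 chevE8.simple (2 * 120 - 1) 238 7 226 ∧
    Cl chevE8 (pf encE8) 120 [[239], [232, 233], [228, 222, 218], [226, 220, 213, 216]]
    [([232, 233], [], [232, 233], [232, 233, 239], [162, 130, 126, 123, 121, 120, 147, 163, 238],
      [(141, 135), (135, 141)]),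
     ([228, 222, 218], [], [228, 222, 218], [218, 222, 228, 239],
      [141, 130, 121, 120, 166, 128, 137, 124, 238],
      [(162, 123), (135, 126), (126, 135), (123, 162), (163, 127)]),
     ([226, 220, 213, 216], [], [226, 220, 213, 216], [213, 216, 220, 226, 236, 237, 238, 239],
      [141, 126, 132, 187, 139, 142, 168, 169, 147, 225], [(162, 120), (135, 121), (130, 123),
      (123, 130), (121, 135), (120, 162), (164, 125), (163, 122)])] := by decide +kernel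

theorem dat (hD : D ∈ [chevE6, chevE7, chevE8]) (T : RootTable D) :
    (∃ b i g, RBd D.pairing T.N D.rank D.simple (hi T) b i g) ∧ ∃ reps nodes reds dat,
      ClassOK D reps nodes reds ∧ Cl D D.pairing T.N reps dat := by
  have H := sl_of_mem (List.mem_cons_of_mem _ hD) T
  have hN := T.nroots_eq
  simp only [List.mem_cons, List.not_mem_nil, or_false] at hD
  unfold hi
  rcases hD with rfl | rfl | rfl
  · rw [show T.N = 36 by change 72 = _ at hN; omega, pf_eq H encE6_agree]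
    exact ⟨⟨_, _, _, d6.1⟩, _, _, _, _, S2175.classOK, d6.2⟩
  · rw [show T.N = 63 by change 126 = _ at hN; omega, pf_eq H encE7_agree]
    exact ⟨⟨_, _, _, d7.1⟩, _, _, _, _, S2181.classOK, d7.2⟩
  · rw [show T.N = 120 by change 240 = _ at hN; omega, pf_eq H encE8_agree]
    exact ⟨⟨_, _, _, d8.1⟩, _, _, _, _, S2176.classOK, d8.2⟩

theorem cls {F : Type*} [Field F] [Finite F] [CharP F 2] {G : Type*} [Group G]
    [Finite G] {x : ℕ → F → G} (h : Lie T x) {g : G} (hg : g ∈ Gs D x) (h2 : g * g = 1)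
    {reps nodes reds} (hc : ClassOK D reps nodes reds) : ∃ Q ∈ [] :: reps, ∀ ms R,
      (∀ r ∈ Q, r < D.nroots) → moves D ms Q = some R → (∀ r ∈ R, r < D.nroots) →
      ∃ l ∈ Gs D x, l * oprod x R 1 * l⁻¹ = g := by
  obtain ⟨⟨_⟩, -⟩ := good (List.mem_cons_of_mem _ h.mem)
  have hs := Au.res_st T h.st
  have h7 : D ∈ [chevG2, chevB2, chevD4, chevF4, chevE6, chevE7, chevE8] := by
    have := h.mem; simp only [List.mem_cons] at this ⊢; tauto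
  obtain ⟨R, h3, h4⟩ := (Au.res_nd h.nd).exists_conj_orth hs Au.res_top
    (fun a ha b hb => (Mult.isR3_of_finite h7 hs.toIsSt0).Hs_comm hs T ha hb)
    (fun a ha e => by
      have k := h.oddH _ ((Au.res_Hs T a).1 ha)
      rw [orderOf_coe] at k
      by_contra e'
      rw [orderOf_eq_prime (by rw [sq, e]) e'] at k
      exact absurd k (by decide)) (t := ⟨g, hg⟩) (Subtype.ext h2)
  obtain ⟨P, h5, h6⟩ := hs.classify_orth T hc.1 (fun P hP => by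
    obtain ⟨q, hq, rfl⟩ := List.mem_map.mp hP
    exact ⟨_, _, _, hc.2.1 q hq⟩) h3
  obtain ⟨q, hq, rfl⟩ := List.mem_map.mp h5
  obtain ⟨h8, Q, h9, h10⟩ := hc.2.2 q hq
  refine ⟨Q, h9, fun ms R' k1 k3 k4 => ?_⟩
  obtain ⟨l, hl⟩ := isConj_iff.1 (((h4.trans h6).trans (hs.isConj_of_moves T h8 h10)).trans
    (hs.isConj_of_moves T k1 k3)).symm
  refine ⟨l, l.2, Eq.trans ?_ (congrArg (Gs D x).subtype hl)⟩
  rw [map_mul, map_mul, map_oprod]
  unfold oprod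
  congr 3
  exact List.map_congr_left fun r hr => Au.res_eq r (k4 r hr) _

end Ins

theorem rb_of_mem (hD : D ∈ [chevE6, chevE7, chevE8]) (T : RootTable D) : ∃ b α, RB T b α :=
  let ⟨b, _, _, h⟩ := (Ins.dat hD T).1
  ⟨b, _, Ins.rb_of (sl_of_mem (List.mem_cons_of_mem _ hD) T) h⟩

/-- The involution classes. -/
theorem Lie.classes {F : Type*} [Field F] [Finite F] [CharP F 2] {G : Type*} [Group G]
    [Finite G] {x : ℕ → F → G} (h : Lie T x) {g : G} (hg : g ∈ Gs D x) (h2 : g * g = 1)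
    (h1 : g ≠ 1) : ∃ l ∈ Gs D x, l * x (hi T) 1 * l⁻¹ = g ∨
      ∃ R Ω, CD T R Ω ∧ l * oprod x R 1 * l⁻¹ = g := by
  obtain ⟨reps, nodes, reds, dat, hc, hd⟩ := (Ins.dat h.mem T).2
  obtain ⟨Q, hQ, k⟩ := Ins.cls h hg h2 hc
  rcases List.mem_cons.1 hQ with rfl | hQ
  · obtain ⟨l, -, e⟩ := k [] [] (by simp) rfl (by simp)
    exact absurd (by simpa using e.symm) h1
  obtain ⟨k1, rfl | ⟨d, -, -, k2, k3⟩⟩ := hd Q hQ
  · obtain ⟨l, hl, e⟩ := k [] _ k1 rfl k1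
    exact ⟨l, hl, .inl (by simpa [hi] using e)⟩
  have k4 := Ins.cd_of h.sl k3
  obtain ⟨l, hl, e⟩ := k _ _ k1 k2 k4.orth.1
  exact ⟨l, hl, .inr ⟨_, _, k4, e⟩⟩

theorem graph_facts2 (hD : D ∈ [chevE6, chevE7, chevE8]) {π : ℕ → ℕ} (hπ : Sym T π)
    (h1 : ∃ r < 2 * T.N, π r ≠ r) : ∃ r s k, T.N ≤ r ∧ T.N ≤ s ∧ Sm T r s k ∧
      π r ≠ r ∧ π s ≠ s ∧ π k ≠ k ∧ D.pairing r (π s) = 0 := by
  have H := sl_of_mem (List.mem_cons_of_mem _ hD) T
  obtain ⟨rfl, h2⟩ := Ins.flip hD hπ h1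
  have hN : 2 * T.N = 72 := T.nroots_eq.symm
  refine ⟨56, 42, 57, by omega, by omega, H.sm_iff.2 ⟨by omega, by omega, by omega, by decide +kernel⟩, ?_⟩
  rw [h2 56 (by omega), h2 42 (by omega), h2 57 (by omega)]
  decide +kernel

end Cfsg.Agent.SLE
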