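import Mathlib
import Cfsg.Agent.SLE.Lead
import Cfsg.Agent.SLE.InvC
import Cfsg.Agent.StdZ.Def0

/-! The classes of inner involutions: `StdZ.Cl` from `CD`. -/

set_option autoImplicit false

namespace Cfsg.Agent.SLE

open Cfsg.Lie Cfsg.Agent.Chev Subgroup Cfsg.Agent.PLocal.Amb Cfsg.Agent.Lyons
open scoped commutatorElement

variable {D : ChevalleyDatum} {T : RootTable D}
variable {F : Type*} [Field F] {G : Type*} [Group G]

/-- a large `2`-subgroup of the centralizer of `∏_{b ∈ R} x_b(a)` -/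
def UR (T : RootTable D) (x : ℕ → F → G) (R : List ℕ) : Subgroup G :=
  closure {g | (∃ r c, P0 T R r ∧ g = x r c) ∨ ∃ r r' c, Pr T R r r' ∧ g = x r c * x r' c}

namespace Z0B

open Rg

theorem not_simple (H : SL T) {r s : ℕ} {i : Fin D.rank} (e : Sm T r s (D.simple i))
    (hr : T.N ≤ r) (hs : T.N ≤ s) : False := by
  have h1 := T.val_pos (T.refl_pos i r hr e.hr e.ne_left.symm) (T.refl_lt i r e.hr)
  have h2 := T.val_pos hs e.hs
  rw [T.vec_refl' i r e.hr, ← T.pairing_simple, H.sm_kr e, one_smul, ← T.vec_simple, e.eq,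
    map_sub, map_add] at h1
  omega

theorem peel (H : SL T) (i : Fin D.rank) :
    Peel T id (Pos T) (Pos T \ {D.simple i, D.simple i}) (D.simple i) := by
  have key : ∀ a s k, Sm T a s k → a ∈ Pos T → T.N ≤ s →
      k ∈ Pos T \ {D.simple i, D.simple i} := fun a s k e ha hs =>
    ⟨⟨e.pos ha.1 hs, e.hk⟩, by rintro (rfl | rfl) <;> exact not_simple H e ha.1 hs⟩
  exact ⟨(Sym.id T).idl_Pos, ⟨fun _ h => h.1, fun _ h => h, fun a s k e ha => key a s k e ha.1⟩,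
    ⟨T.N_le_simple i, T.simple_lt i⟩, rfl, key⟩

theorem exists_deg (T : RootTable D) (R : List ℕ) :
    ∃ f : (Fin D.rank → ℤ) →+ ℤ, ∀ s < 2 * T.N, deg D R s = f (T.vec s) := by
  induction R with
  | nil => exact ⟨0, fun _ _ => rfl⟩
  | cons b R ih =>
    obtain ⟨f, hf⟩ := ih
    exact ⟨(RootTable.corootHom D b).toAddMonoidHom + f, fun s hs => by
      rw [AddMonoidHom.add_apply, ← hf s hs, deg, List.map_cons, List.sum_cons,
        T.pairing_eq_corootHom _ hs]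
      rfl⟩

theorem deg_sm (R : List ℕ) {r s k : ℕ} (e : Sm T r s k) :
    deg D R k = deg D R r + deg D R s := by
  obtain ⟨f, hf⟩ := exists_deg T R
  rw [hf _ e.hk, hf _ e.hr, hf _ e.hs, e.eq, map_add]

theorem deg_neg (T : RootTable D) (R : List ℕ) {r : ℕ} (hr : r < 2 * T.N) :
    deg D R (D.neg r) = -deg D R r := by
  obtain ⟨f, hf⟩ := exists_deg T R
  rw [hf _ hr, hf _ (T.neg_lt hr), T.vec_neg r hr, map_neg]

variable {R Ω : List ℕ}

theorem deg_nonneg (hc : CD T R Ω) {r : ℕ} (h1 : T.N ≤ r) (hr : r < 2 * T.N) : 0 ≤ deg D R r := by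
  obtain ⟨f, hf⟩ := exists_deg T R
  rw [hf _ hr]
  exact (pos_of_dom T f (fun i => hf _ (T.simple_lt i) ▸ hc.dom i) hr).1 h1

theorem lt (hc : CD T R Ω) {b : ℕ} (hb : b ∈ R) : b < 2 * T.N := T.lt_iff.1 (hc.orth.1 b hb)

theorem orth (hc : CD T R Ω) {b c : ℕ} (hb : b ∈ R) (hc' : c ∈ R) (h : c ≠ b) :
    D.pairing b c = 0 :=
  have : Std.Symm fun r s => D.pairing r s = 0 ∧ D.pairing s r = 0 := ⟨fun _ _ => And.symm⟩
  (hc.orth.2.forall hb hc' h.symm).1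

theorem orth' (hc : CD T R Ω) {b c : ℕ} (hb : b ∈ R) (hc' : c ∈ R) : 0 ≤ D.pairing b c := by
  by_cases e : c = b
  · rw [e, T.pairing_self _ (lt hc hb)]; omega
  · exact (orth hc hb hc' e).ge

theorem split (hc : CD T R Ω) {b : ℕ} (hb : b ∈ R) :
    ∃ l l', R = l ++ b :: l' ∧ (∀ c ∈ l, c ∈ R ∧ c ≠ b) ∧ ∀ c ∈ l', c ∈ R ∧ c ≠ b := by
  obtain ⟨l, l', rfl⟩ := List.append_of_mem hb
  have h1 := hc.orth.2
  have h2 := T.pairing_self _ (lt hc hb)
  rw [List.pairwise_append, List.pairwise_cons] at h1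
  refine ⟨l, l', rfl, fun c h => ⟨by simp [h], ?_⟩, fun c h => ⟨by simp [h], ?_⟩⟩
  · rintro rfl
    have := (h1.2.2 c h c List.mem_cons_self).1
    omega
  · rintro rfl
    have := (h1.2.1.1 c h).1
    omega

theorem deg_self (hc : CD T R Ω) {b : ℕ} (hb : b ∈ R) : deg D R b = 2 := by
  obtain ⟨l, l', e, h1, h2⟩ := split hc hb
  have key : ∀ l : List ℕ, (∀ c ∈ l, c ∈ R ∧ c ≠ b) → (l.map fun c => D.pairing c b).sum = 0 :=
    fun l h => List.sum_eq_zero fun y hy => by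
      obtain ⟨c, h3, rfl⟩ := List.mem_map.1 hy
      exact orth hc (h c h3).1 hb (h c h3).2.symm
  rw [deg]
  conv_lhs => rw [e]
  rw [List.map_append, List.sum_append, List.map_cons, List.sum_cons, key l h1, key l' h2,
    T.pairing_self _ (lt hc hb)]
  rfl

theorem pr_orth (H : SL T) (hc : CD T R Ω) {r r' : ℕ} (h : Pr T R r r') : D.pairing r r' = 0 := by
  obtain ⟨-, -, b, hb, b', hb', k, h1, e, e', -⟩ := h
  have := e'.pair r
  have := H.sm_rk e
  have := pair' H e e'.hs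
  have := H.sm_ks e'
  have := orth hc hb hb' h1.symm
  omega

theorem pr_lt {r r' : ℕ} (h : Pr T R r r') : r ∈ Pos T ∧ r' ∈ Pos T :=
  let ⟨h1, h2, _, _, _, _, _, _, e, e', _⟩ := h; ⟨⟨h1, e.hr⟩, h2, e'.hr⟩

variable {x : ℕ → F → G}

theorem comm_oprod (h : Lie T x) {r : ℕ} (hr : r < 2 * T.N) {l : List ℕ}
    (hl : ∀ e ∈ l, e < 2 * T.N ∧ 0 ≤ D.pairing r e) (a : F) (t : ℕ → F) :
    Commute (x r a) (oprod x l t) :=
  comm_XS (S := {e | e < 2 * T.N ∧ 0 ≤ D.pairing r e})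
    (fun _ he b => h.sl.com h.st.toIsSt0 hr he.1 he.2 a b) (oprod_mem_XS hl t)

theorem conj_oprod {k : G} {l : List ℕ} {t t' : ℕ → F}
    (h : ∀ r ∈ l, k * x r (t r) * k⁻¹ = x r (t' r)) : k * oprod x l t * k⁻¹ = oprod x l t' := by
  induction l with
  | nil => simp
  | cons r l ih =>
    rw [oprod_cons, oprod_cons, ← conj_mul, h r List.mem_cons_self,
      ih fun r hr => h r (List.mem_cons_of_mem _ hr)]

theorem X_mem (hc : CD T R Ω) (t : ℕ → F) : oprod x R t ∈ Us D x :=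
  oprod_mem fun _ hr => T.mem_Us' (hc.pos _ hr) (lt hc hr) _

theorem X_add (h : Lie T x) {l : List ℕ} (hl : ∀ r ∈ l, ∀ e ∈ l, e < 2 * T.N ∧ 0 ≤ D.pairing r e)
    (a b : F) : (oprod x l fun _ => a + b) = (oprod x l fun _ => a) * oprod x l fun _ => b := by
  induction l with
  | nil => simp
  | cons r l ih =>
    have hr := (hl r List.mem_cons_self r List.mem_cons_self).1
    rw [oprod_cons, oprod_cons, oprod_cons,
      ih fun r hr e he => hl r (List.mem_cons_of_mem _ hr) e (List.mem_cons_of_mem _ he),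
      ← h.st.toIsSt0.add r (T.lt_iff.2 hr), mul_assoc, mul_assoc, ← mul_assoc (x r b),
      (comm_oprod h hr (fun e he => hl r List.mem_cons_self e (List.mem_cons_of_mem _ he)) b _).eq,
      mul_assoc]

theorem torus (h : Lie T x) {l : List ℕ} (hl : ∀ r ∈ l, r < 2 * T.N) {e : F} (he : e ≠ 0) :
    ∃ k ∈ Gs D x, ∀ s < 2 * T.N, ∀ a, k * x s a * k⁻¹ = x s (e ^ deg D l s * a) := by
  induction l with
  | nil => exact ⟨1, one_mem _, fun s _ a => by simp [deg]⟩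
  | cons r l ih =>
    obtain ⟨k, hk, h1⟩ := ih fun r hr => hl r (List.mem_cons_of_mem _ hr)
    have hr := hl r List.mem_cons_self
    refine ⟨hh D x r e * k, mul_mem (T.Hs_le_Gs (hh_mem_Hs (T.lt_iff.2 hr) he)) hk,
      fun s hs a => ?_⟩
    rw [mul_inv_rev, ← mul_assoc, mul_assoc _ k, mul_assoc _ _ k⁻¹, h1 s hs, h.st.hh_conj T hr hs he,
      deg, deg, List.map_cons, List.sum_cons, zpow_add₀ he, mul_assoc]

variable [CharP F 2]

theorem x_conj (h : Lie T x) {s ρ k : ℕ} (e : Sm T s ρ k) (a c : F) :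
    x ρ c * x s a * (x ρ c)⁻¹ = x s a * x k (a * c) := by
  rw [inv_eq_of_mul_eq_one_right (x_sq h.st.toIsSt0 e.hs c), h.sl.conj h.st.toIsSt0 e]

theorem conj_one (h : Lie T x) (hc : CD T R Ω) {r b k : ℕ} (hb : b ∈ R) (e : Sm T r b k)
    (h1 : ∀ c ∈ R, c ≠ b → 0 ≤ D.pairing r c) (a c : F) :
    x r c * (oprod x R fun _ => a) * (x r c)⁻¹ = (oprod x R fun _ => a) * x k (a * c) := by
  obtain ⟨l, l', e', h2, h3⟩ := split hc hb
  have c1 := comm_oprod h e.hr (fun s hs => ⟨lt hc (h2 s hs).1, h1 s (h2 s hs).1 (h2 s hs).2⟩) c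
    fun _ => a
  have c2 := comm_oprod h e.hr (fun s hs => ⟨lt hc (h3 s hs).1, h1 s (h3 s hs).1 (h3 s hs).2⟩) c
    fun _ => a
  have c3 := comm_oprod h e.hk (l := l') (fun s hs => ⟨lt hc (h3 s hs).1, by
    rw [pair' h.sl e (lt hc (h3 s hs).1)]
    exact add_nonneg (h1 s (h3 s hs).1 (h3 s hs).2) (orth' hc hb (h3 s hs).1)⟩) (a * c) fun _ => a
  rw [e', oprod_append, oprod_cons, ← conj_mul, ← conj_mul, x_conj h e.symm, c1.eq, c2.eq,
    mul_inv_cancel_right, mul_inv_cancel_right, mul_assoc (x b a), c3.eq]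
  group

/-- the roots of degree at least two -/
def A2 (T : RootTable D) (R : List ℕ) : Set ℕ := {s | s ∈ Pos T ∧ 2 ≤ deg D R s}

omit [CharP F 2] in
theorem A2_nonneg (H : SL T) (hc : CD T R Ω) {r s : ℕ} (hr : r ∈ A2 T R) (hs : s ∈ A2 T R) :
    0 ≤ D.pairing r s :=
  ((H.tri_cases hr.1.2 hs.1.2).resolve_left ((nil_Pos T).ne_neg hr.1 hs.1)).resolve_right
    fun ⟨k, e⟩ => by
      have := deg_sm R e
      have := hc.top k e.hk
      have := hr.2
      have := hs.2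
      omega

omit [CharP F 2] in
theorem A2_closed (H : SL T) (hc : CD T R Ω) {S : Set ℕ} (hS : S ⊆ A2 T R) : T.Closed S :=
  H.closed_of_sm (fun _ h => (hS h).1) fun r s k e hr hs => by
    have := A2_nonneg H hc (hS hr) (hS hs)
    have := H.sm_rs e
    omega

omit [CharP F 2] in
theorem A2_nil (H : SL T) (hc : CD T R Ω) {S : Set ℕ} (hS : S ⊆ A2 T R) : T.Nil S :=
  (nil_Pos T).mono (fun _ h => (hS h).1) (A2_closed H hc hS)

omit [CharP F 2] in
theorem A2_comm (h : Lie T x) (hc : CD T R Ω) {u v : G} (hu : u ∈ XS x (A2 T R))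
    (hv : v ∈ XS x (A2 T R)) : Commute u v :=
  comm_XS (fun _ hr a => (comm_XS (fun _ hs b => h.sl.com h.st.toIsSt0 hr.1.2 hs.1.2
    (A2_nonneg h.sl hc hr hs) a b) hu).symm) hv

omit [CharP F 2] in
theorem A2_sm (hc : CD T R Ω) {s ρ k : ℕ} (e : Sm T s ρ k) (hs : s ∈ A2 T R) (hρ : T.N ≤ ρ) :
    k ∈ A2 T R :=
  ⟨⟨e.pos hs.1.1 hρ, e.hk⟩, by
    have := deg_sm R e
    have := deg_nonneg hc hρ e.hs
    have := hs.2
    omega⟩

theorem step (h : Lie T x) {s ρ : ℕ} (hs : s ∈ Pos T) (hρ : ρ ∈ Pos T) (a c : F) :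
    x ρ c * x s a * (x ρ c)⁻¹ = x s a ∨
      ∃ k, Sm T s ρ k ∧ x ρ c * x s a * (x ρ c)⁻¹ = x s a * x k (a * c) :=
  ((h.sl.tri_cases hs.2 hρ.2).resolve_left ((nil_Pos T).ne_neg hs hρ)).imp
    (fun e => by rw [← (h.sl.com h.st.toIsSt0 hs.2 hρ.2 e a c).eq, mul_inv_cancel_right])
    fun ⟨k, e⟩ => ⟨k, e, x_conj h e a c⟩

/-- the coefficient of `γ` vanishes -/
theorem kill (h : Lie T x) (hc : CD T R Ω) {γ r r' k : ℕ} {S : Set ℕ} (hS : S ⊆ A2 T R)
    (hγ : γ ∈ S) (hr : T.N ≤ r) (hr' : r' ∈ Pos T) (e : Sm T γ r k)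
    (h1 : ∀ s ∈ S, ¬ Sm T s r' k ∧ ¬ Sm T s r' γ) {a c : F} (h2 : c ≠ 0) {v : G}
    (hv : (x γ a)⁻¹ * v ∈ XS x (S \ {γ})) (h3 : Commute (x r c * x r' c) v) : a = 0 := by
  have h0 := h.st.toIsSt0
  have hk := A2_sm hc e (hS hγ) hr
  have sub : A2 T R \ {k} ⊆ A2 T R := Set.sdiff_subset
  have k1 : ∀ s ∈ A2 T R, s ≠ γ → ∀ a, ∃ β ∈ XS x (A2 T R \ {k}),
      x r c * x s a * (x r c)⁻¹ = x s a * β := fun s hs h4 a => by
    rcases step h hs.1 ⟨hr, e.hs⟩ a c with e' | ⟨k', m, e'⟩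
    · exact ⟨1, one_mem _, by rw [e', mul_one]⟩
    · refine ⟨_, mem_XS (And.intro (A2_sm hc m hs hr) fun h5 => h4 ?_) _, e'⟩
      rw [show k' = k from h5] at m
      exact m.symm.uniq' e.symm
  have k2 : ∀ s ∈ S, ∀ a, ∃ β ∈ XS x (A2 T R \ {k}),
      x r c * x r' c * x s a * (x r c * x r' c)⁻¹ = x r c * x s a * (x r c)⁻¹ * β := fun s hs a => by
    rw [show x r c * x r' c * x s a * (x r c * x r' c)⁻¹ =
      x r c * (x r' c * x s a * (x r' c)⁻¹) * (x r c)⁻¹ by group]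
    rcases step h (hS hs).1 hr' a c with e' | ⟨k', m, e'⟩
    · exact ⟨1, one_mem _, by rw [e', mul_one]⟩
    · have h4 := A2_sm hc m (hS hs) hr'.1
      obtain ⟨β, hβ, e''⟩ := k1 k' h4 (fun h5 => (h1 s hs).2 (h5 ▸ m)) (a * c)
      exact ⟨_, mul_mem (mem_XS (And.intro h4 fun h5 => (h1 s hs).1 ((show k' = k from h5) ▸ m)) _)
        hβ, by rw [e', ← conj_mul, e'']⟩
  have k3 := comm_mem_of_closure (A := XS x (A2 T R \ {k})) (K := XS x (A2 T R))
    (fun u hu => centralizer_le_normalizer _ fun w hw => (A2_comm h hc (XS_mono sub hw) hu).eq)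
    (S := {g | ∃ s ∈ S \ {γ}, ∃ a, g = x s a})
    (by rintro _ ⟨s, hs, a, rfl⟩; exact mem_XS (hS hs.1) a) (z := (x r c * x r' c)⁻¹) (by
      rintro _ ⟨s, hs, a, rfl⟩
      obtain ⟨β, hβ, e1⟩ := k2 s hs.1 a
      obtain ⟨β', hβ', e2⟩ := k1 s (hS hs.1) hs.2 a
      have := x_sq h0 (hS hs.1).1.2 a
      rw [inv_inv, inv_eq_of_mul_eq_one_right this, e1, e2, mul_assoc (x s a),
        (A2_comm h hc (mem_XS (hS hs.1) a) (XS_mono sub (mul_mem hβ' hβ))).eq, mul_assoc, this,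
        mul_one]
      exact mul_mem hβ' hβ) hv
  obtain ⟨β, hβ, e1⟩ := k2 γ hγ a
  rw [x_conj h e] at e1
  refine (mul_eq_zero.1 (uniq_one h.sl h.nd h0 (fun _ h => h.1.1) (A2_closed h.sl hc sub) hk.1
    (fun h => h.2 rfl) ?_)).resolve_right h2
  have e2 : (x r c * x r' c)⁻¹⁻¹ * ((x γ a)⁻¹ * v)⁻¹ * (x r c * x r' c)⁻¹ * ((x γ a)⁻¹ * v) =
      v⁻¹ * (x γ a * (x k (a * c) * β) * (x γ a)⁻¹) * v := by
    rw [← mul_assoc (x γ a), ← e1, inv_inv, mul_inv_rev, inv_inv, ← mul_assoc _ v⁻¹,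
      h3.inv_right.eq]
    group
  have hv' : v ∈ XS x (A2 T R) := by
    simpa using mul_mem (mem_XS (hS hγ) a) (XS_mono (Set.sdiff_subset.trans hS) hv)
  have h4 := mul_mem (mem_XS hk (a * c)) (XS_mono sub hβ)
  rw [e2, (A2_comm h hc (mem_XS (hS hγ) a) h4).eq, mul_inv_cancel_right, mul_assoc,
    (A2_comm h hc h4 hv').eq, inv_mul_cancel_left] at k3
  simpa using mul_mem k3 (inv_mem hβ)

end Z0B

open Z0B Rg

variable [Finite F] [CharP F 2] [Finite G] {x : ℕ → F → G} {t : G} {R Ω : List ℕ}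

/-- PROOF. For a pair: <r,r'> = 0; conjugation by x_r(c) and by x_r'(c) each multiply
X a by x_k(ac), and x_k commutes with r, r' and all b ∈ R. -/
theorem CD.comm (h : Lie T x) (hc : CD T R Ω) {g : G} (hg : g ∈ UR T x R) (a : F) :
    Commute g (oprod x R fun _ => a) := by
  have : UR T x R ≤ centralizer {oprod x R fun _ => a} := (closure_le _).2 (by
    rintro _ (⟨r, c, hr, rfl⟩ | ⟨r, r', c, ⟨-, -, b, hb, b', hb', k, -, e, e', h1, h2⟩, rfl⟩)
    · exact mem_centralizer_singleton_iff.2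
        (comm_oprod h hr.2.1 (fun e he => ⟨lt hc he, hr.2.2 e he⟩) c _).eq
    · refine mem_centralizer_singleton_iff.2 (mul_inv_eq_iff_eq_mul.1 ?_)
      rw [mul_inv_rev, ← mul_assoc, mul_assoc (x r c), mul_assoc (x r c), conj_one h hc hb' e' h2,
        ← conj_mul, conj_one h hc hb e h1, (h.sl.com h.st.toIsSt0 e.hr e.hk
          (by rw [h.sl.sm_rk e]; omega) c _).eq, mul_inv_cancel_right, mul_assoc,
        x_sq h.st.toIsSt0 e.hk, mul_one])
  exact mem_centralizer_singleton_iff.1 (this hg)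

/-- PROOF. (A) τ = u (n d) u' (bruhat_nf). For a simple root α_i (sim) τ fixes y = x_α(c) or
x_α(c) x_r'(c), c ≠ 0: then (d u') y (d u')⁻¹ ∈ XS (coinvSet w) (mem_coinvSet); Pos \ {π α} is closed
and U-invariant, so π α ∈ coinvSet w (uniq_one). π permutes the simple roots ⇒ w = 1
(eq_one_of_act_pos), n ∈ Hs, τ normalizes Us: τ = u d, d² = 1 (invol_dec').
(B) Rg.fix_root at θ: σ = 1. For r ∈ P0: π r = r (Rg.conj_lead, lead_eq). π preserves pairings and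
permutes the simple roots, so sep ⇒ π fixes them; π = id (Au.sym_ext), c² = 1, d ∈ K0, invol_K0.
(C) u commutes with the same elements. strip (S = Pos, φ = val, K = C of the x_r(c_r), Ω, om, kil,
lead_zero) ⇒ u ∈ XS Ω. A = XS{2 ≤ deg} is abelian (top: nil_of_half-type argument, deg is additive:
Sm.pair), R ⊆ Ω (kil). With b from kil2 write u = oprod (b :: Ω') t, u₁ = u · X(t b) ∈ XS(Ω \ {b})
still commutes with the pair elements (CD.comm). For s ∈ Ω \ {b,θ}, y = x_r(c) x_r'(c), k from kil2: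
v ↦ v⁻¹ y v y⁻¹ is a homomorphism A → A (dom: deg r, deg r' ≥ 0) mapping x_s(a) into
x_k(ac) XS(A-roots \ {k}) and x_s'(a), s' ∈ Ω \ {b,s}, into XS(A-roots \ {k}); uniq_one ⇒ the
s-coefficient of u₁ vanishes. So u₁ ∈ X_θ. -/
theorem CD.zs (h : Std T x t) (hc : CD T R Ω) {τ : G} (h1 : τ ∈ 𝐳[t]) (h2 : τ * τ = 1)
    (h3 : ∀ a, Commute τ (x (hi T) a)) (h4 : ∀ r, P0 T R r → ∃ c, c ≠ 0 ∧ Commute τ (x r c))
    (h5 : ∀ r r', Pr T R r r' → ∃ c, c ≠ 0 ∧ Commute τ (x r c * x r' c)) :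
    ∃ a b, τ = (oprod x R fun _ => a) * x (hi T) b ∨
      τ = t * ((oprod x R fun _ => a) * x (hi T) b) := by
  have H := h.sl
  have h0 := h.st.toIsSt0
  obtain ⟨u, hu, n, hn, w, hw, d, π, c, σ, nf, u', hu', e⟩ := h.bruhat_nf (h.nrm h1)
  have pos : ∀ i j : Fin D.rank, π (D.simple i) = D.simple j → T.N ≤ T.act w (D.simple j) := by
    intro i j hj
    obtain ⟨a, ha, y, hy, hyU, h6⟩ : ∃ a, a ≠ 0 ∧ ∃ y ∈ XS x (Pos T \ {D.simple i, D.simple i}),
        y ∈ Us D x ∧ Commute τ (x (D.simple i) a * y) := by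
      rcases hc.sim i with h6 | ⟨r', h6⟩
      · obtain ⟨a, ha, h7⟩ := h4 _ h6
        exact ⟨a, ha, 1, one_mem _, one_mem _, by rwa [mul_one]⟩
      · obtain ⟨a, ha, h7⟩ := h5 _ _ h6
        have h8 := pr_orth H hc h6
        refine ⟨a, ha, _, mem_XS (And.intro (pr_lt h6).2 ?_) a,
          T.mem_Us' (pr_lt h6).2.1 (pr_lt h6).2.2 a, h7⟩
        rintro (rfl | rfl) <;> rw [T.pairing_self _ (T.simple_lt i)] at h8 <;> omega
    have hx := T.mem_Us' (x := x) (T.N_le_simple i) (T.simple_lt i) a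
    have h7 := h.nd.mem_coinvSet h.st hw (Chev.conj_mem_of_mem_normalizer (Au.nf_Us nf)
      (mul_mem (mul_mem hu' (mul_mem hx hyU)) (inv_mem hu'))) (by
        rw [show n * (d * (u' * (x (D.simple i) a * y) * u'⁻¹) * d⁻¹) * n⁻¹ =
          u⁻¹ * (τ * (x (D.simple i) a * y) * τ⁻¹) * u by rw [e]; group, h6.eq, mul_inv_cancel_right]
        exact Us_le_Bs (mul_mem (mul_mem (inv_mem hu) (mul_mem hx hyU)) hu))
    by_contra h8
    have p := peel H j
    have h9 : d * (u' * (x (D.simple i) a * y) * u'⁻¹ * (x (D.simple i) a)⁻¹) * d⁻¹ ∈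
        XS x (Pos T \ {D.simple j, D.simple j}) := by
      refine conj_mem_of_XS (x := x) (S := Pos T \ {D.simple i, D.simple i}) (fun r hr t => ?_) ?_
      · rw [nf.conj r hr.1.2]
        refine mem_XS (And.intro (nf.sym.idl_Pos.inv r hr.1) fun h9 => hr.2 (Or.inl ?_)) _
        rw [← nf.sym.inv r hr.1.2, show π r = D.simple j from h9.elim id id, ← hj,
          nf.sym.inv _ (T.simple_lt i)]
      · have nr := (peel H i).small.norm H h0
        have := mul_mem ((peel H i).comm H h0 (peel H i).mem a (inv_mem hu'))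
          (Chev.conj_mem_of_mem_normalizer (nr (mul_mem hx hu')) hy)
        convert this using 1
        group
    refine mul_ne_zero (nf.ne _ (T.simple_lt i)) ((map_ne_zero σ).2 ha) (uniq_one H h.nd h0
      p.small.pos (p.small.closed H) p.pos p.not_mem ?_)
    have := mul_mem (inv_mem h9) (XS_mono (S' := Pos T \ {D.simple j, D.simple j})
      (fun r hr => ⟨hr.1, fun e => h8 ((show r = D.simple j from e.elim id id) ▸ hr.2)⟩) h7)
    rw [← hj, ← nf.conj _ (T.simple_lt i), hj]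
    convert this using 1
    group
  obtain rfl : w = 1 := T.eq_one_of_act_pos fun j => by
    obtain ⟨i, hi⟩ := nf.sym.simple j
    exact pos i j (by rw [← hi, nf.sym.inv _ (T.simple_lt j)])
  have hU : τ ∈ normalizer (Us D x : Set G) := e ▸ mul_mem (mul_mem (le_normalizer hu) (mul_mem
    (h.st.Hs_le_normalizer_Us T (h.nd.mem_Hs_of_acts_one h.st hn hw)) (Au.nf_Us nf)))
    (le_normalizer hu')
  clear pos e nf hu hu'
  obtain ⟨u, hu, d, π, c, σ, nf, hd, rfl⟩ := h.invol_dec' (h.nrm h1) hU h2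
  obtain rfl : σ = RingEquiv.refl F :=
    RingEquiv.ext (fix_root h.nd h0 hu nf (le_hi T) (hi_lt T) h3).2.2
  have f0 : ∀ r, P0 T R r → π r = r := fun r hr => by
    obtain ⟨a, ha, h6⟩ := h4 r hr
    have := conj_lead h0 hr.1 hr.2.1 a hu
    rw [show u⁻¹ * x r a * u = d * x r a * d⁻¹ by
      rw [mul_assoc, inv_mul_eq_iff_eq_mul, ← mul_assoc, ← mul_assoc, h6.eq]; group,
      nf.conj r hr.2.1] at this
    exact lead_eq h.nd h0 hr.1 hr.2.1 ((nf.sym.pos r hr.2.1).2 hr.1) (nf.sym.lt r hr.2.1) ha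
      (mul_ne_zero (nf.ne r hr.2.1) ha) this
  have f1 := Au.sym_ext H nf.sym (Sym.id T) fun i => by
    obtain ⟨j, hj⟩ := nf.sym.simple i
    by_contra h6
    obtain ⟨r, hr, h7⟩ := hc.sep i j fun e => h6 (by rw [hj, e]; rfl)
    exact h7 (by rw [← hj, ← nf.sym.pair r hr.2.1 _ (T.simple_lt i), f0 r hr])
  have hdC : d ∈ centralizer (Gs D x : Set G) := Au.cen_of_conj (T := T) fun r hr a =>
    Iv.conj_fix ⟨H, h.st, h.nd, nf, hd, fun r hr e => absurd (f1 r hr) e⟩ hr (f1 r hr) a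
  have tL : ∀ g ∈ Gs D x, Commute t g := fun g =>
    comm_XS fun r hr a => h.tx r (T.lt_iff.1 hr) a
  have hdt : d ∈ 𝐳[t] := by
    simpa using mul_mem (inv_mem (mem_cent.2 (tL u (Us_le_Gs hu)))) h1
  have cu : ∀ g ∈ Gs D x, Commute (u * d) g → Commute u g := fun g hg e => by
    simpa using e.mul_left (cen hdC hg).inv_left
  suffices ∃ a b, u = (oprod x R fun _ => a) * x (hi T) b by
    obtain ⟨a, b, e⟩ := this
    refine ⟨a, b, (h.invol_K0 (k := d) ⟨hdt, hdC⟩ hd).imp (fun e' => by rw [e', mul_one, e])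
      fun e' => by rw [e', ← e, (tL u (Us_le_Gs hu)).eq]⟩
  have hΩ : ∀ s ∈ Ω, s ∈ A2 T R := fun s hs =>
    ⟨⟨(hc.om s hs).1, (hc.om s hs).2.1⟩, (hc.om s hs).2.2.1⟩
  have s1 := strip h0 (nil_Pos T) (φ := T.val) val_pos' (fun r hr s hs => T.val_inj hr.2 hs.2)
    (K := centralizer {g | ∃ r c, P0 T R r ∧ g = x r c ∧ Commute u g}) (Ω := {s | s ∈ Ω})
    (by
      rintro γ hγ h6 a _ ⟨r, c, hr, rfl, -⟩
      exact (H.com h0 hγ.2 hr.2.1 ((hc.om γ h6).2.2.2 r hr) a c).eq.symm)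
    (fun γ hγ h6 a v hv h7 => by
      obtain ⟨r, k, hr, e⟩ := (hc.kil γ hγ.1 hγ.2).resolve_left h6
      obtain ⟨c, h8, h9⟩ := h4 r hr
      refine lead_zero H h0 h.nd (nil_Pos T) val_pos' hγ e (fun s hs =>
        ⟨(nil_Pos T).ne_neg ⟨hr.1, hr.2.1⟩ hs, fun k' e' => ⟨e'.pos hs.1 hr.1, e'.hk⟩⟩) h7 h8 ?_
      rw [hv _ ⟨r, c, hr, rfl, cu _ (xG hr.2.1 c) h9⟩, mul_inv_cancel_right, inv_mul_cancel]
      exact one_mem _)
    (Us_eq_Pos T x ▸ hu) (by rintro _ ⟨r, c, -, rfl, e⟩; exact e.eq.symm)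
  have hR : ∀ b ∈ R, b ∈ Ω := fun b hb => (hc.kil b (hc.pos b hb) (lt hc hb)).resolve_right
    fun ⟨r, k, hr, e⟩ => by
      have := hr.2.2 b hb
      have := H.sm_sr e
      omega
  obtain ⟨b, hb, h6⟩ := hc.kil2
  have sub : {s | s ∈ Ω} \ {b} ⊆ A2 T R := fun s hs => hΩ s hs.1
  obtain ⟨p, hp, q, hq, e⟩ := h0.exists_mul_of_mem_union (S₁ := {b}) (S₂ := {s | s ∈ Ω} \ {b})
    (A2_nil H hc (by rintro s (rfl | hs); exacts [hΩ _ (hR _ hb), sub hs]))
    (XS_mono (fun s hs => by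
      by_cases e : s = b
      exacts [Or.inl e, Or.inr ⟨hs.2, e⟩]) s1)
  obtain ⟨a, rfl⟩ := (h0.mem_XS_singleton (T.lt_iff.2 (lt hc hb))).1 hp
  have s2 : (oprod x R fun _ => a)⁻¹ * u ∈ XS x ({s | s ∈ Ω} \ {b}) := by
    obtain ⟨l, l', e', p1, p2⟩ := split hc hb
    have q1 := oprod_mem_XS (x := x) (S := {s | s ∈ Ω} \ {b})
      (fun r hr => ⟨hR r (p1 r hr).1, (p1 r hr).2⟩) fun _ => a
    have q2 := oprod_mem_XS (x := x) (S := {s | s ∈ Ω} \ {b})
      (fun r hr => ⟨hR r (p2 r hr).1, (p2 r hr).2⟩) fun _ => a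
    have := mul_mem (inv_mem (mul_mem q1 q2)) hq
    rw [e, e', oprod_append, oprod_cons, ← mul_assoc (oprod x l _),
      (A2_comm h.toLie hc (XS_mono sub q1) (mem_XS (hΩ _ (hR _ hb)) a)).eq]
    convert this using 1
    group
  have s3 := strip h0 (A2_nil H hc sub) (φ := T.val) (fun r hr => val_pos' r (sub hr).1)
    (fun r hr s hs => T.val_inj (sub hr).1.2 (sub hs).1.2)
    (K := centralizer {g | ∃ r r' c, Pr T R r r' ∧ g = x r c * x r' c ∧ Commute u g}) (Ω := {hi T})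
    (by
      rintro _ - rfl a _ ⟨r, r', c, hr, rfl, -⟩
      exact (hi_comm H h0 a (mul_mem (T.mem_Us' (pr_lt hr).1.1 (pr_lt hr).1.2 c)
        (T.mem_Us' (pr_lt hr).2.1 (pr_lt hr).2.2 c))).eq.symm)
    (fun γ hγ h7 a v hv h8 => by
      obtain ⟨r, r', k, hr, e, h9⟩ := ((h6 γ hγ.1).resolve_left hγ.2).resolve_left h7
      obtain ⟨c, p1, p2⟩ := h5 r r' hr
      exact kill h.toLie hc sub hγ hr.1 (pr_lt hr).2 e (fun s hs => h9 s hs.1 hs.2) p1
        (XS_mono (fun s hs => And.intro hs.1 (by rintro rfl; have := hs.2; omega)) h8)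
        (hv _ ⟨r, r', c, hr, rfl, cu _ (mul_mem (xG (pr_lt hr).1.2 c) (xG (pr_lt hr).2.2 c)) p2⟩))
    s2 (by
      rintro _ ⟨r, r', c, hr, rfl, e⟩
      exact ((hc.comm h.toLie (subset_closure (Or.inr ⟨r, r', c, hr, rfl⟩)) a).inv_right.mul_right
        e.symm).eq)
  obtain ⟨a', e'⟩ := (h0.mem_XS_singleton (T.lt_iff.2 (hi_lt T))).1
    (XS_mono Set.inter_subset_right s3)
  exact ⟨a, a', inv_mul_eq_iff_eq_mul.1 e'⟩

/-- PROOF. cnj: ∏_{b ∈ R} hh b √a scales every x_b by a (induction on R, or conjugate one root at a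
time; isSquare_of_charTwo'), then x_{θ - b₁}(b/a) (hd; <θ - b₁, b'> ≥ 0 by hi_nonneg). zs: for an
additive family y c ∈ U, q > 2: a ∉ {0,1}, one of y 1, y a, y (1 + a) is centralized; q = 2: y 1.
mv: c = nn ρ 1 (AE.rw, sm_rw), c' = x ρ 1 (SL.conj). -/
theorem CD.cl (h : Std T x t) (hc : CD T R Ω) :
    StdZ.Cl t (Gs D x) (UR T x R) (x (hi T)) fun a => oprod x R fun _ => a := by
  have H := h.sl
  have h0 := h.st.toIsSt0
  have m1 : ∀ r, P0 T R r → ∀ c, x r c ∈ UR T x R := fun r hr c =>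
    subset_closure (Or.inl ⟨r, c, hr, rfl⟩)
  have m2 : ∀ r r', Pr T R r r' → ∀ c, x r c * x r' c ∈ UR T x R := fun r r' hr c =>
    subset_closure (Or.inr ⟨r, r', c, hr, rfl⟩)
  have c2 : ∀ r r', Pr T R r r' → ∀ c c', Commute (x r c) (x r' c') := fun r r' hr =>
    H.com h0 (pr_lt hr).1.2 (pr_lt hr).2.2 (pr_orth H hc hr).ge
  have hU : UR T x R ≤ Us D x := (closure_le _).2 (by
    rintro _ (⟨r, c, hr, rfl⟩ | ⟨r, r', c, hr, rfl⟩)
    · exact T.mem_Us' hr.1 hr.2.1 c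
    · exact mul_mem (T.mem_Us' (pr_lt hr).1.1 (pr_lt hr).1.2 c)
        (T.mem_Us' (pr_lt hr).2.1 (pr_lt hr).2.2 c))
  refine ⟨X_add h.toLie fun r hr e he => ⟨lt hc he, orth' hc hr he⟩,
    fun a b => (hi_comm H h0 b (X_mem hc _)).eq.symm, fun a ha b => ?_,
    fun g hg => ⟨Us_le_Gs (hU hg), mem_cent.2 (hc.comm h.toLie hg 1).symm⟩, h.two_Us.to_le hU,
    closure_mono ?_, fun a => ?_, fun τ h1 h2 h3 h4 h5 => ?_, fun _ => ?_⟩
  · obtain ⟨e, rfl⟩ := isSquare_of_charTwo' a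
    obtain ⟨k, hk, h1⟩ := torus h.toLie (l := R) (fun _ => lt hc) (left_ne_zero_of_mul ha)
    obtain ⟨b₁, hb, h2⟩ := hc.hd
    obtain ⟨ρ, m⟩ := H.exists_sub (lt hc hb) (hi_lt T) (by rw [H.symm _ (lt hc hb) _ (hi_lt T), h2])
    refine ⟨x ρ (b / (e * e)) * k, mul_mem (xG m.hs _) hk, ?_⟩
    rw [mul_inv_rev, ← mul_assoc, mul_assoc _ k, mul_assoc _ _ k⁻¹,
      conj_oprod (t' := fun _ => e * e) fun r hr => by
        rw [h1 r (lt hc hr), deg_self hc hr, mul_one, zpow_two],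
      conj_one h.toLie hc hb m.symm fun c p1 p2 => by
        have := pair' H m (lt hc p1)
        have := Z0B.orth hc hb p1 p2
        have := H.hi_nonneg (hc.pos c p1) (lt hc p1)
        omega, mul_div_cancel₀ _ ha]
  · rintro _ (⟨r, c, hr, rfl⟩ | ⟨r, r', c, hr, rfl⟩)
    · exact ⟨m1 r hr c, x_sq h0 hr.2.1 c⟩
    · exact ⟨m2 r r' hr c, by rw [mul_assoc, ← mul_assoc (x r' c), ← (c2 r r' hr c c).eq, mul_assoc,
        x_sq h0 (pr_lt hr).2.2, mul_one, x_sq h0 (pr_lt hr).1.2]⟩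
  · obtain ⟨r, s, hr, hs, e⟩ := hc.zu
    have := H.sum h0 e a 1
    rw [mul_one] at this
    rw [show x (hi T) a = ⁅(x s (1 : F))⁻¹, (x r a)⁻¹⁆ by
      rw [commutatorElement_def, inv_inv, inv_inv, mul_assoc, this]; group]
    exact commutator_mem_commutator (inv_mem (m1 s hs 1)) (inv_mem (m1 r hr a))
  · have key : ∀ y : F → G, (∀ c, y c ∈ UR T x R) → (∀ c c', y c * y c' = y (c + c')) →
        ∃ c, c ≠ 0 ∧ Commute τ (y c) := fun y p1 p2 => by
      by_cases hq : Nat.card F = 2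
      · exact ⟨1, one_ne_zero, mem_cent.1 (h5 hq (p1 1))⟩
      obtain ⟨a, a0, a1⟩ : ∃ a : F, a ≠ 0 ∧ a ≠ 1 := by
        by_contra p3
        push Not at p3
        exact hq ((Nat.card_eq_two_iff' (0 : F)).2 ⟨1, one_ne_zero, p3⟩)
      rcases h4 _ (p1 1) _ (p1 a) with e | e | e
      · exact ⟨1, one_ne_zero, mem_cent.1 e⟩
      · exact ⟨a, a0, mem_cent.1 e⟩
      · exact ⟨1 + a, fun e => a1 (by rw [add_eq_zero_iff_eq_neg, CharTwo.neg_eq] at e; exact e.symm),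
          mem_cent.1 (p2 1 a ▸ e)⟩
    exact hc.zs h h1 h2 (fun a => mem_cent.1 (h3 a))
      (fun r hr => key _ (m1 r hr) (h0.add r (T.lt_iff.2 hr.2.1)))
      fun r r' hr => key (fun c => x r c * x r' c) (m2 r r' hr) fun c c' => by
        rw [mul_assoc, ← mul_assoc (x r' c), ← (c2 r r' hr c' c).eq, mul_assoc,
          h0.add _ (T.lt_iff.2 (pr_lt hr).2.2), ← mul_assoc, h0.add _ (T.lt_iff.2 (pr_lt hr).1.2)]
  · obtain ⟨ρ, k, h1, m⟩ := hc.mv
    have n := AE.rw h.st m.hs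
    have e := n.conj _ (hi_lt T) 1
    rw [SL.sm_rw m (H.sm_sr m)] at e
    have p1 := fun c => mem_cent.2 (comm_oprod h.toLie m.hs
      (fun b hb => ⟨lt hc hb, (h1 b hb).ge⟩) c fun _ => 1).symm
    have p2 := fun c => mem_cent.2 (comm_oprod h.toLie (T.neg_lt m.hs)
      (fun b hb => ⟨lt hc hb, by rw [T.pairing_neg_left m.hs, h1 b hb]; rfl⟩) c fun _ => 1).symm
    refine ⟨nn D x ρ 1, ⟨ae_G n, nn_mem p1 p2 1⟩, x ρ 1, ⟨xG m.hs 1, p1 1⟩, ?_⟩
    rw [e, x_conj h.toLie m, mul_one]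
    exact ⟨fun e => m.ne_left (h.nd.root_eq_of_x_eq h0 m.hk m.hr one_ne_zero e),
      mem_cent.2 (H.com h0 m.hr m.hk (by rw [H.sm_rk m]; omega) 1 1), rfl⟩

end Cfsg.Agent.SLE
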